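import Mathlib

set_option autoImplicit false

/-!
Arithmetic behind the bound `|G| < p^(3k)`, `|G|^3 < p^(8k)` for groups of Lie type, `p^k` being the
`p`-part of the order.
-/

namespace Cfsg.Agent.Lib.LieTypeBound

/-- The two inequalities for a natural number `n` and a prime `p`. -/
def OrderBounds (p n : ℕ) : Prop :=
  n < p ^ (3 * n.factorization p) ∧ n ^ 3 < p ^ (8 * n.factorization p)

theorem not_dvd_pow_sub_one {p q a : ℕ} (hp : p.Prime) (hpq : p ∣ q) (ha : 0 < a) (hq : 0 < q) :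
    ¬ p ∣ q ^ a - 1 := by
  intro h
  have h1 : p ∣ q ^ a := dvd_pow hpq ha.ne'
  have h2 : p ∣ q ^ a - (q ^ a - 1) := Nat.dvd_sub h1 h
  have h3 : 1 ≤ q ^ a := Nat.one_le_pow _ _ hq
  rw [show q ^ a - (q ^ a - 1) = 1 by omega] at h2
  exact hp.one_lt.ne' (Nat.dvd_one.1 h2)

theorem not_dvd_pow_add_one {p q a : ℕ} (hp : p.Prime) (hpq : p ∣ q) (ha : 0 < a) :
    ¬ p ∣ q ^ a + 1 := by
  intro h
  exact hp.one_lt.ne' (Nat.dvd_one.1 ((Nat.dvd_add_right (dvd_pow hpq ha.ne')).1 h))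

theorem factorization_eq {p e N d n M : ℕ} (hp : p.Prime) (hn : n ≠ 0)
    (h : d * n = (p ^ e) ^ N * M) (hd : ¬ p ∣ d) (hM : ¬ p ∣ M) :
    n.factorization p = e * N := by
  have hd0 : d ≠ 0 := fun h0 => hd (h0 ▸ dvd_zero p)
  have hM0 : M ≠ 0 := fun h0 => hM (h0 ▸ dvd_zero p)
  have key := congrArg (fun x => x.factorization p) h
  rw [Nat.factorization_mul hd0 hn, ← pow_mul,
    Nat.factorization_mul (pow_ne_zero _ hp.ne_zero) hM0, Nat.Prime.factorization_pow hp,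
    Finsupp.add_apply, Finsupp.add_apply, Nat.factorization_eq_zero_of_not_dvd hd,
    Nat.factorization_eq_zero_of_not_dvd hM, Finsupp.single_eq_same] at key
  omega

/-- Main criterion: `d * n = q^N * M` with `M < q^R` and `3 R ≤ 5 N`. -/
theorem orderBounds_of {p q e N R d n M : ℕ} (hp : p.Prime) (hq : q = p ^ e) (hn : n ≠ 0)
    (h : d * n = q ^ N * M) (hd : ¬ p ∣ d) (hM : ¬ p ∣ M) (hlt : M < q ^ R) (hR : 3 * R ≤ 5 * N) :
    OrderBounds p n := by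
  subst hq
  have hv := factorization_eq hp hn h hd hM
  have hd0 : 0 < d := Nat.pos_of_ne_zero fun h0 => hd (h0 ▸ dvd_zero p)
  have hlt' : n < (p ^ e) ^ (N + R) := by
    calc n ≤ d * n := Nat.le_mul_of_pos_left _ hd0
      _ = (p ^ e) ^ N * M := h
      _ < (p ^ e) ^ N * (p ^ e) ^ R :=
        Nat.mul_lt_mul_of_pos_left hlt (pow_pos (pow_pos hp.pos _) _)
      _ = _ := (pow_add _ _ _).symm
  rw [OrderBounds, hv]
  constructor
  · refine lt_of_lt_of_le hlt' ?_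
    rw [show 3 * (e * N) = e * (3 * N) by ring, ← pow_mul]
    exact Nat.pow_le_pow_right hp.pos (Nat.mul_le_mul_left _ (by omega))
  · refine lt_of_lt_of_le (Nat.pow_lt_pow_left hlt' three_ne_zero) ?_
    rw [show 8 * (e * N) = e * (8 * N) by ring, ← pow_mul, ← pow_mul]
    exact Nat.pow_le_pow_right hp.pos (Nat.mul_le_mul_left _ (by omega))

/-- The bound `n < p^(3k)` alone, needing only `R ≤ 2 N`. -/
theorem lt_cube_of {p q e N R d n M : ℕ} (hp : p.Prime) (hq : q = p ^ e) (hn : n ≠ 0)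
    (h : d * n = q ^ N * M) (hd : ¬ p ∣ d) (hM : ¬ p ∣ M) (hlt : M < q ^ R) (hR : R ≤ 2 * N) :
    n < p ^ (3 * n.factorization p) := by
  subst hq
  have hv := factorization_eq hp hn h hd hM
  have hd0 : 0 < d := Nat.pos_of_ne_zero fun h0 => hd (h0 ▸ dvd_zero p)
  calc n ≤ d * n := Nat.le_mul_of_pos_left _ hd0
    _ = (p ^ e) ^ N * M := h
    _ < (p ^ e) ^ N * (p ^ e) ^ R :=
      Nat.mul_lt_mul_of_pos_left hlt (pow_pos (pow_pos hp.pos _) _)
    _ ≤ _ := by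
      rw [hv, ← pow_add, ← pow_mul, show 3 * (e * N) = e * (3 * N) by ring]
      exact Nat.pow_le_pow_right hp.pos (Nat.mul_le_mul_left _ (by omega))

theorem prod_sub_one_le (q k : ℕ) (f : ℕ → ℕ) :
    ∏ i ∈ Finset.range k, (q ^ f i - 1) ≤ q ^ ∑ i ∈ Finset.range k, f i := by
  rw [← Finset.prod_pow_eq_pow_sum]
  exact Finset.prod_le_prod' fun i _ => Nat.sub_le _ _

theorem prod_sub_one_lt {q k : ℕ} (f : ℕ → ℕ) (hq : 0 < q) (hk : 0 < k) :
    ∏ i ∈ Finset.range k, (q ^ f i - 1) < q ^ ∑ i ∈ Finset.range k, f i := by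
  obtain ⟨j, rfl⟩ : ∃ j, k = j + 1 := ⟨k - 1, by omega⟩
  rw [Finset.prod_range_succ, Finset.sum_range_succ, pow_add]
  refine lt_of_le_of_lt (Nat.mul_le_mul_right _ (prod_sub_one_le q j f)) ?_
  refine Nat.mul_lt_mul_of_pos_left ?_ (pow_pos hq _)
  have := Nat.one_le_pow (f j) q hq
  omega

theorem not_dvd_prod_sub_one {p q : ℕ} (hp : p.Prime) (hpq : p ∣ q) (hq : 0 < q) (k : ℕ)
    (f : ℕ → ℕ) (hf : ∀ i, 0 < f i) : ¬ p ∣ ∏ i ∈ Finset.range k, (q ^ f i - 1) :=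
  Prime.not_dvd_finsetProd hp.prime fun i _ => not_dvd_pow_sub_one hp hpq (hf i) hq

theorem sub_mul_add_lt {q a b : ℕ} (hq : 2 ≤ q) (hab : a < b) :
    (q ^ a - 1) * (q ^ b + 1) < q ^ (a + b) := by
  obtain ⟨A, hA⟩ : ∃ A, q ^ a = A + 1 := ⟨q ^ a - 1, by have := Nat.one_le_pow a q (by omega); omega⟩
  have hB : q ^ a < q ^ b := Nat.pow_lt_pow_right (by omega) hab
  rw [pow_add, hA, Nat.add_sub_cancel]
  rw [hA] at hB
  nlinarith

theorem add_mul_sub_lt {q a b : ℕ} (hq : 2 ≤ q) (hab : b ≤ a) :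
    (q ^ a + 1) * (q ^ b - 1) < q ^ (a + b) := by
  obtain ⟨B, hB⟩ : ∃ B, q ^ b = B + 1 := ⟨q ^ b - 1, by have := Nat.one_le_pow b q (by omega); omega⟩
  have hA : q ^ b ≤ q ^ a := Nat.pow_le_pow_right (by omega) hab
  rw [pow_add, hB, Nat.add_sub_cancel]
  rw [hB] at hA
  nlinarith

end Cfsg.Agent.Lib.LieTypeBound
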