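import Cfsg.Prelude.Def_LieTypeChar
import Cfsg.Agent.Lib.LieTypeBound.Arith
import Cfsg.Agent.S0243
import Cfsg.Agent.S0280
import Cfsg.Agent.S0292
import Cfsg.Agent.S0293
import Cfsg.Agent.S0294
import Cfsg.Agent.S1059
import Cfsg.Agent.S1062
import Cfsg.Agent.S1063
import Cfsg.Agent.S1064
import Cfsg.Agent.S1065
import Cfsg.Agent.Lib.Classical.Symplectic
import Cfsg.Agent.Lib.SuzukiSp4.Iso

set_option autoImplicit false

/-!
`OrderBounds` for each family of groups of Lie type.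
-/

namespace Cfsg.Agent.Lib.LieTypeBound

theorem exists_card_eq (p : ℕ) (hp : p.Prime) (F : Type*) [Field F] [Fintype F] [CharP F p] :
    ∃ e : ℕ, 0 < e ∧ Fintype.card F = p ^ e := by
  obtain ⟨n, -, hn⟩ := FiniteField.card F p
  exact ⟨n, n.pos, hn⟩

theorem exists_base_eq {p q r : ℕ} (hp : p.Prime) (hr : 0 < r) (F : Type*) [Field F] [Fintype F]
    [CharP F p] (hF : Fintype.card F = q ^ r) :
    ∃ e : ℕ, 0 < e ∧ q = p ^ e := by
  obtain ⟨n, hn0, hn⟩ := exists_card_eq p hp F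
  have h : q ∣ p ^ n := hn ▸ hF ▸ dvd_pow_self q hr.ne'
  obtain ⟨e, -, rfl⟩ := (Nat.dvd_prime_pow hp).1 h
  refine ⟨e, Nat.pos_of_ne_zero fun he => ?_, rfl⟩
  subst he
  have := Fintype.one_lt_card (α := F)
  rw [hF] at this
  simp at this

theorem not_dvd_of_dvd {p d M : ℕ} (hdM : d ∣ M) (h : ¬ p ∣ M) : ¬ p ∣ d :=
  fun hd => h (hd.trans hdM)

variable {p : ℕ}

theorem mul_lt_pow {q a b x y : ℕ} (ha : a < q ^ x) (hb : b < q ^ y) : a * b < q ^ (x + y) := by
  rw [pow_add]; exact Nat.mul_lt_mul'' ha hb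

theorem dvd_of_eq_pow {q e : ℕ} (he : 0 < e) (hq : q = p ^ e) : p ∣ q :=
  hq ▸ dvd_pow_self p he.ne'

theorem two_le_of_eq_pow (hp : p.Prime) {q e : ℕ} (he : 0 < e) (hq : q = p ^ e) : 2 ≤ q :=
  hq ▸ le_trans hp.two_le (Nat.le_self_pow he.ne' p)

theorem prod_pow_sub_pow (q n : ℕ) :
    ∏ i : Fin n, (q ^ n - q ^ (i : ℕ)) =
      q ^ (n * (n - 1) / 2) * ∏ i ∈ Finset.range n, (q ^ (i + 1) - 1) := by
  rw [Fin.prod_univ_eq_prod_range (fun i => q ^ n - q ^ i) n, ← Finset.sum_range_id,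
    ← Finset.prod_pow_eq_pow_sum,
    ← Finset.prod_range_reflect (fun i => q ^ (i + 1) - 1) n, ← Finset.prod_mul_distrib]
  refine Finset.prod_congr rfl fun i hi => ?_
  have hi' := Finset.mem_range.1 hi
  rw [Nat.mul_sub, ← pow_add, mul_one]
  congr 2
  omega

theorem psl_eq {F : Type} [Field F] [Fintype F] {q : ℕ} (hF : Fintype.card F = q) (hq : 2 ≤ q)
    (k : ℕ) :
    Nat.gcd (k + 2) (q - 1) * Nat.card (Matrix.ProjectiveSpecialLinearGroup (Fin (k + 2)) F) =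
      q ^ ((k + 2) * (k + 1) / 2) * ∏ i ∈ Finset.range (k + 1), (q ^ (i + 2) - 1) := by
  have h := Cfsg.Agent.S0243.result hF (k + 2) (by omega)
  rw [prod_pow_sub_pow, Finset.prod_range_succ' (fun i => q ^ (i + 1) - 1)] at h
  simp only [zero_add, pow_one, add_assoc, Nat.reduceAdd, show k + 2 - 1 = k + 1 from rfl] at h
  refine Nat.eq_of_mul_eq_mul_right (m := q - 1) (by omega) ?_
  linear_combination h

theorem sum_add_two_mul_two (k : ℕ) :
    (∑ i ∈ Finset.range k, (i + 2)) * 2 = k * (k + 3) := by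
  induction k with
  | zero => simp
  | succ k ih => rw [Finset.sum_range_succ, add_mul, ih]; ring

theorem sum_two_mul_succ (k : ℕ) : ∑ i ∈ Finset.range k, 2 * (i + 1) = k * (k + 1) := by
  induction k with
  | zero => simp
  | succ k ih => rw [Finset.sum_range_succ, ih]; ring

theorem psl_two (hp : p.Prime) {F : Type} [Field F] [Fintype F] [CharP F p] :
    Nat.card (Matrix.ProjectiveSpecialLinearGroup (Fin 2) F) <
        p ^ (3 * (Nat.card (Matrix.ProjectiveSpecialLinearGroup (Fin 2) F)).factorization p) ∧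
      Fintype.card F =
        p ^ (Nat.card (Matrix.ProjectiveSpecialLinearGroup (Fin 2) F)).factorization p := by
  obtain ⟨e, he, hq⟩ := exists_card_eq p hp F
  have h2 := two_le_of_eq_pow hp he hq
  have hpq := dvd_of_eq_pow he hq
  have hM : ¬ p ∣ (Fintype.card F) ^ 2 - 1 := not_dvd_pow_sub_one hp hpq two_pos (by omega)
  have h := psl_eq (F := F) rfl h2 0
  norm_num at h
  have hd : ¬ p ∣ Nat.gcd 2 (Fintype.card F - 1) := not_dvd_of_dvd (Nat.gcd_dvd_right _ _)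
    (by simpa using not_dvd_pow_sub_one hp hpq one_pos (by omega : 0 < Fintype.card F))
  have h' : Nat.gcd 2 (Fintype.card F - 1) *
      Nat.card (Matrix.ProjectiveSpecialLinearGroup (Fin 2) F) =
        Fintype.card F ^ 1 * (Fintype.card F ^ 2 - 1) := by rw [pow_one]; exact h
  refine ⟨lt_cube_of hp hq Nat.card_pos.ne' h' hd hM (R := 2) ?_ le_rfl, ?_⟩
  · have := Nat.one_le_pow 2 (Fintype.card F) (by omega)
    omega
  · rw [hq] at h' hd hM
    rw [factorization_eq hp Nat.card_pos.ne' h' hd hM, mul_one, hq]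

theorem psl (hp : p.Prime) {F : Type} [Field F] [Fintype F] [CharP F p] {n : ℕ} (hn : 3 ≤ n) :
    OrderBounds p (Nat.card (Matrix.ProjectiveSpecialLinearGroup (Fin n) F)) := by
  obtain ⟨k, rfl⟩ : ∃ k, n = k + 2 := ⟨n - 2, by omega⟩
  obtain ⟨e, he, hq⟩ := exists_card_eq p hp F
  have h2 := two_le_of_eq_pow hp he hq
  have hpq := dvd_of_eq_pow he hq
  refine orderBounds_of hp hq Nat.card_pos.ne' (psl_eq rfl h2 k)
    (not_dvd_of_dvd (Nat.gcd_dvd_right _ _)
      (by simpa using not_dvd_pow_sub_one hp hpq one_pos (by omega : 0 < Fintype.card F)))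
    (not_dvd_prod_sub_one hp hpq (by omega) _ _ (fun i => Nat.succ_pos _))
    (prod_sub_one_lt (fun i => i + 2) (by omega) (Nat.succ_pos k)) ?_
  have h1 := sum_add_two_mul_two (k + 1)
  have hev : 2 ∣ (k + 2) * (k + 1) := by
    rw [mul_comm]; exact (Nat.even_mul_succ_self (k + 1)).two_dvd
  obtain ⟨c, hc⟩ := hev
  rw [hc, Nat.mul_div_cancel_left _ two_pos]
  nlinarith

theorem psp (hp : p.Prime) {F : Type} [Field F] [Fintype F] [CharP F p] {m : ℕ} (hm : 2 ≤ m) :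
    OrderBounds p (Nat.card (PSp m F)) := by
  obtain ⟨e, he, hq⟩ := exists_card_eq p hp F
  have h2 := two_le_of_eq_pow hp he hq
  have hpq := dvd_of_eq_pow he hq
  have h : Nat.gcd 2 (Fintype.card F - 1) * Nat.card (PSp m F) =
      Fintype.card F ^ (m ^ 2) * ∏ i ∈ Finset.range m, (Fintype.card F ^ (2 * (i + 1)) - 1) := by
    rw [← Classical.natCard_center_symplecticGroup (F := F) m (by omega), mul_comm,
      ← Subgroup.card_eq_card_quotient_mul_card_subgroup,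
      Classical.natCard_symplecticGroup (F := F) m, Nat.card_eq_fintype_card]
  refine orderBounds_of hp hq Nat.card_pos.ne' h
    (not_dvd_of_dvd (Nat.gcd_dvd_right _ _)
      (by simpa using not_dvd_pow_sub_one hp hpq one_pos (by omega : 0 < Fintype.card F)))
    (not_dvd_prod_sub_one hp hpq (by omega) _ _ (fun i => by positivity))
    (prod_sub_one_lt (fun i => 2 * (i + 1)) (by omega) (by omega)) ?_
  rw [sum_two_mul_succ]
  nlinarith

theorem psu_prod_bound {q : ℕ} (hq : 2 ≤ q) (k : ℕ) :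
    (Even k → ∏ i ∈ Finset.range k, (if Even (i + 1) then q ^ (i + 2) + 1 else q ^ (i + 2) - 1)
        ≤ q ^ ∑ i ∈ Finset.range k, (i + 2)) ∧
    (Odd k → (∏ i ∈ Finset.range k, (if Even (i + 1) then q ^ (i + 2) + 1 else q ^ (i + 2) - 1)) *
        (q ^ (k + 2) + 1) < q ^ ∑ i ∈ Finset.range (k + 1), (i + 2)) := by
  induction k with
  | zero => simp
  | succ k ih =>
    rcases Nat.even_or_odd k with hk | hk
    · refine ⟨fun h => absurd hk (by simpa [Nat.even_add_one] using h), fun _ => ?_⟩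
      rw [Finset.prod_range_succ, if_neg (by simpa [Nat.even_add_one] using hk), mul_assoc,
        Finset.sum_range_succ, Finset.sum_range_succ, add_assoc (∑ i ∈ _, _), pow_add q (∑ i ∈ _, _)]
      refine lt_of_le_of_lt (Nat.mul_le_mul_right _ (ih.1 hk)) ?_
      refine Nat.mul_lt_mul_of_pos_left ?_ (pow_pos (show 0 < q by omega) _)
      exact sub_mul_add_lt hq (a := k + 2) (b := k + 1 + 2) (by omega)
    · refine ⟨fun _ => ?_, fun h => absurd h (by simpa [Nat.odd_add_one] using hk)⟩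
      rw [Finset.prod_range_succ, if_pos (Odd.add_one hk)]
      exact (ih.2 hk).le

theorem psu_prod_lt {q : ℕ} (hq : 2 ≤ q) {k : ℕ} (hk : 0 < k) :
    ∏ i ∈ Finset.range k, (if Even (i + 1) then q ^ (i + 2) + 1 else q ^ (i + 2) - 1)
      < q ^ ∑ i ∈ Finset.range k, (i + 2) := by
  obtain ⟨j, rfl⟩ : ∃ j, k = j + 1 := ⟨k - 1, by omega⟩
  rcases Nat.even_or_odd j with hj | hj
  · have h := (psu_prod_bound hq (j + 1)).2 hj.add_one
    have hs : q ^ ∑ i ∈ Finset.range (j + 1 + 1), (i + 2) =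
        q ^ (∑ i ∈ Finset.range (j + 1), (i + 2)) * q ^ (j + 1 + 2) := by
      rw [Finset.sum_range_succ _ (j + 1), pow_add]
    rw [hs] at h
    by_contra hcon
    push Not at hcon
    exact absurd h (not_lt.2 (Nat.mul_le_mul hcon (Nat.le_succ _)))
  · rw [Finset.prod_range_succ, if_pos (Odd.add_one hj)]
    exact (psu_prod_bound hq j).2 hj

theorem psu (hp : p.Prime) {F : Type} [Field F] [Fintype F] [CharP F p] {n q : ℕ}
    (hF : Fintype.card F = q ^ 2) (hn : 3 ≤ n) : OrderBounds p (Nat.card (PSU n F q)) := by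
  obtain ⟨k, rfl⟩ : ∃ k, n = k + 2 := ⟨n - 2, by omega⟩
  obtain ⟨e, he, hq⟩ := exists_base_eq hp two_pos F hF
  have h2 := two_le_of_eq_pow hp he hq
  have hpq := dvd_of_eq_pow he hq
  have h0 := Cfsg.Agent.S0280.result hF (k + 2) (by omega)
  rw [Finset.prod_range_succ'] at h0
  simp only [Even.zero, if_true, zero_add, pow_one, add_assoc, Nat.reduceAdd,
    show k + 2 - 1 = k + 1 from rfl] at h0
  have h : Nat.gcd (k + 2) (q + 1) * Nat.card (PSU (k + 2) F q) = q ^ ((k + 2) * (k + 1) / 2) *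
      ∏ i ∈ Finset.range (k + 1), (if Even (i + 1) then q ^ (i + 2) + 1 else q ^ (i + 2) - 1) := by
    refine Nat.eq_of_mul_eq_mul_right (m := q + 1) (by omega) ?_
    linear_combination h0
  refine orderBounds_of hp hq Nat.card_pos.ne' h
    (not_dvd_of_dvd (Nat.gcd_dvd_right _ _)
      (by simpa using not_dvd_pow_add_one hp hpq one_pos))
    (Prime.not_dvd_finsetProd hp.prime fun i _ => ?_)
    (psu_prod_lt h2 (Nat.succ_pos k)) ?_
  · split_ifs
    · exact not_dvd_pow_add_one hp hpq (Nat.succ_pos _)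
    · exact not_dvd_pow_sub_one hp hpq (Nat.succ_pos _) (by omega)
  · have h1 := sum_add_two_mul_two (k + 1)
    obtain ⟨c, hc⟩ : 2 ∣ (k + 2) * (k + 1) := by
      rw [mul_comm]; exact (Nat.even_mul_succ_self (k + 1)).two_dvd
    rw [hc, Nat.mul_div_cancel_left _ two_pos]
    nlinarith

theorem pomegaOdd (hp : p.Prime) {F : Type} [Field F] [Fintype F] [CharP F p] {m : ℕ} (hm : 3 ≤ m)
    (hodd : Odd (Fintype.card F)) : OrderBounds p (Nat.card (POmega F (quadFormOdd m F))) := by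
  obtain ⟨e, he, hq⟩ := exists_card_eq p hp F
  have h2 := two_le_of_eq_pow hp he hq
  have hpq := dvd_of_eq_pow he hq
  have hd : ¬ p ∣ 2 := fun h => by
    rw [(Nat.prime_dvd_prime_iff_eq hp Nat.prime_two).1 h] at hpq
    exact Nat.not_even_iff_odd.2 hodd (even_iff_two_dvd.2 hpq)
  refine orderBounds_of hp hq Nat.card_pos.ne' (Cfsg.Agent.S0292.result rfl hodd m hm) hd
    (not_dvd_prod_sub_one hp hpq (by omega) _ _ (fun i => by positivity))
    (prod_sub_one_lt (fun i => 2 * (i + 1)) (by omega) (by omega)) ?_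
  rw [sum_two_mul_succ]
  nlinarith

theorem sum_plus (m : ℕ) (hm : 4 ≤ m) :
    m + ∑ i ∈ Finset.range (m - 1), 2 * (i + 1) = m ^ 2 := by
  rw [sum_two_mul_succ]
  obtain ⟨j, rfl⟩ : ∃ j, m = j + 1 := ⟨m - 1, by omega⟩
  rw [Nat.add_sub_cancel]; ring

theorem three_sq_le (m : ℕ) (hm : 4 ≤ m) : 3 * m ^ 2 ≤ 5 * (m * (m - 1)) := by
  obtain ⟨j, rfl⟩ : ∃ j, m = j + 1 := ⟨m - 1, by omega⟩
  rw [Nat.add_sub_cancel]; nlinarith

theorem pomegaPlus (hp : p.Prime) {F : Type} [Field F] [Fintype F] [CharP F p] {m : ℕ}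
    (hm : 4 ≤ m) : OrderBounds p (Nat.card (POmega F (quadFormPlus m F))) := by
  obtain ⟨e, he, hq⟩ := exists_card_eq p hp F
  have h2 := two_le_of_eq_pow hp he hq
  have hpq := dvd_of_eq_pow he hq
  have h1 := not_dvd_pow_sub_one hp hpq (by omega : 0 < m) (by omega)
  refine orderBounds_of hp hq Nat.card_pos.ne'
    ((Cfsg.Agent.S0293.result rfl m hm).trans (mul_assoc _ _ _))
    (not_dvd_of_dvd (Nat.gcd_dvd_right _ _) h1)
    (hp.prime.not_dvd_mul h1
      (not_dvd_prod_sub_one hp hpq (by omega) _ _ (fun i => by positivity)))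
    (R := m ^ 2) ?_ (three_sq_le m hm)
  rw [← sum_plus m hm, pow_add]
  exact Nat.mul_lt_mul'' (Nat.sub_lt (pow_pos (by omega) _) one_pos)
    (prod_sub_one_lt (fun i => 2 * (i + 1)) (by omega) (by omega))

theorem pomegaMinus (hp : p.Prime) {F : Type} [Field F] [Fintype F] [CharP F p] {m : ℕ}
    (hm : 4 ≤ m) (a b : F)
    (hab : ∀ z₁ z₂ : F, z₁ ^ 2 + a * z₁ * z₂ + b * z₂ ^ 2 = 0 → z₁ = 0 ∧ z₂ = 0) :
    OrderBounds p (Nat.card (POmega F (quadFormMinus (m - 1) F a b))) := by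
  obtain ⟨e, he, hq⟩ := exists_card_eq p hp F
  have h2 := two_le_of_eq_pow hp he hq
  have hpq := dvd_of_eq_pow he hq
  have h1 := not_dvd_pow_add_one hp hpq (by omega : 0 < m)
  refine orderBounds_of hp hq Nat.card_pos.ne'
    ((Cfsg.Agent.S0294.result rfl m hm a b hab).trans (mul_assoc _ _ _))
    (not_dvd_of_dvd (Nat.gcd_dvd_right _ _) h1)
    (hp.prime.not_dvd_mul h1
      (not_dvd_prod_sub_one hp hpq (by omega) _ _ (fun i => by positivity)))
    (R := m ^ 2) ?_ (three_sq_le m hm)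
  rw [← sum_plus m hm]
  obtain ⟨j, hj⟩ : ∃ j, m - 1 = j + 1 := ⟨m - 2, by omega⟩
  rw [hj, Finset.prod_range_succ', Finset.sum_range_succ' (fun i => 2 * (i + 1)),
    ← mul_assoc, mul_comm, ← mul_assoc, add_comm (∑ i ∈ _, _), ← add_assoc, pow_add]
  refine lt_of_lt_of_le (Nat.mul_lt_mul_of_lt_of_le ?_ (prod_sub_one_le _ j _) (pow_pos (by omega) _))
    le_rfl
  rw [mul_comm]
  exact add_mul_sub_lt h2 (by omega)

theorem exceptional (hp : p.Prime) {F : Type} [Field F] [Fintype F] [CharP F p] :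
    OrderBounds p (Nat.card ↥(Lie.chevG2.group F)) ∧
    OrderBounds p (Nat.card ↥(Lie.chevF4.group F)) ∧
    OrderBounds p (Nat.card ↥(Lie.chevE6.group F)) ∧
    OrderBounds p (Nat.card ↥(Lie.chevE7.group F)) ∧
    OrderBounds p (Nat.card ↥(Lie.chevE8.group F)) := by
  obtain ⟨e, he, hq⟩ := exists_card_eq p hp F
  have h2 := two_le_of_eq_pow hp he hq
  have hpq := dvd_of_eq_pow he hq
  have hd : ∀ d : ℕ, ¬ p ∣ Nat.gcd d (Fintype.card F - 1) := fun d =>
    not_dvd_of_dvd (Nat.gcd_dvd_right _ _)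
      (by simpa using not_dvd_pow_sub_one hp hpq one_pos (by omega : 0 < Fintype.card F))
  have hs : ∀ a, 0 < a → ¬ p ∣ Fintype.card F ^ a - 1 := fun a ha =>
    not_dvd_pow_sub_one hp hpq ha (by omega)
  have hl : ∀ a, Fintype.card F ^ a - 1 < Fintype.card F ^ a := fun a =>
    Nat.sub_lt (pow_pos (by omega) _) one_pos
  have hm : ∀ {a b : ℕ}, ¬ p ∣ a → ¬ p ∣ b → ¬ p ∣ a * b := fun x y => hp.prime.not_dvd_mul x y
  refine ⟨?_, ?_, ?_, ?_, ?_⟩
  · refine orderBounds_of hp hq Nat.card_pos.ne' (d := 1) (N := 6) (R := 8)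
      ?_ hp.not_dvd_one (hm (hs 2 (by norm_num)) (hs 6 (by norm_num))) ?_ (by norm_num)
    · rw [one_mul, Cfsg.Agent.S1059.result (F := F) rfl, mul_assoc]
    ·
      exact mul_lt_pow (hl 2) (hl 6)
  · refine orderBounds_of hp hq Nat.card_pos.ne' (d := 1) (N := 24) (R := 28)
      ?_ hp.not_dvd_one (hm (hm (hm (hs 2 (by norm_num)) (hs 6 (by norm_num))) (hs 8 (by norm_num))) (hs 12 (by norm_num))) ?_ (by norm_num)
    · rw [one_mul, Cfsg.Agent.S1062.result (F := F) rfl]; ring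
    ·
      exact mul_lt_pow (mul_lt_pow (mul_lt_pow (hl 2) (hl 6)) (hl 8)) (hl 12)
  · refine orderBounds_of hp hq Nat.card_pos.ne' (d := Nat.gcd 3 (Fintype.card F - 1)) (N := 36) (R := 42)
      ?_ (hd _) (hm (hm (hm (hm (hm (hs 2 (by norm_num)) (hs 5 (by norm_num))) (hs 6 (by norm_num))) (hs 8 (by norm_num))) (hs 9 (by norm_num))) (hs 12 (by norm_num))) ?_ (by norm_num)
    · rw [Cfsg.Agent.S1063.result (F := F) rfl]; ring
    ·
      exact mul_lt_pow (mul_lt_pow (mul_lt_pow (mul_lt_pow (mul_lt_pow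
        (hl 2) (hl 5)) (hl 6)) (hl 8)) (hl 9)) (hl 12)
  · refine orderBounds_of hp hq Nat.card_pos.ne' (d := Nat.gcd 2 (Fintype.card F - 1)) (N := 63) (R := 70)
      ?_ (hd _) (hm (hm (hm (hm (hm (hm (hs 2 (by norm_num)) (hs 6 (by norm_num))) (hs 8 (by norm_num))) (hs 10 (by norm_num))) (hs 12 (by norm_num))) (hs 14 (by norm_num))) (hs 18 (by norm_num))) ?_ (by norm_num)
    · rw [Cfsg.Agent.S1064.result (F := F) rfl]; ring
    ·
      exact mul_lt_pow (mul_lt_pow (mul_lt_pow (mul_lt_pow (mul_lt_pow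
        (mul_lt_pow (hl 2) (hl 6)) (hl 8)) (hl 10)) (hl 12)) (hl 14)) (hl 18)
  · refine orderBounds_of hp hq Nat.card_pos.ne' (d := 1) (N := 120) (R := 128)
      ?_ hp.not_dvd_one (hm (hm (hm (hm (hm (hm (hm (hs 2 (by norm_num)) (hs 8 (by norm_num))) (hs 12 (by norm_num))) (hs 14 (by norm_num))) (hs 18 (by norm_num))) (hs 20 (by norm_num))) (hs 24 (by norm_num))) (hs 30 (by norm_num))) ?_ (by norm_num)
    · rw [one_mul, Cfsg.Agent.S1065.result (F := F) rfl]; ring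
    ·
      exact mul_lt_pow (mul_lt_pow (mul_lt_pow (mul_lt_pow (mul_lt_pow
        (mul_lt_pow (mul_lt_pow (hl 2) (hl 8)) (hl 12)) (hl 14)) (hl 18)) (hl 20)) (hl 24)) (hl 30)

/-- The Suzuki groups. -/
theorem suzuki {F : Type} [Field F] [Fintype F] {m : ℕ} (hm : 1 ≤ m)
    (hF : Fintype.card F = 2 ^ (2 * m + 1)) :
    OrderBounds 2 (Nat.card ↥(Lie.Sz F (2 ^ (m + 1)))) := by
  have hc : Nat.card ↥(Cfsg.Sz F m) =
      Fintype.card F ^ 2 * (Fintype.card F ^ 2 + 1) * (Fintype.card F - 1) :=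
    Suzuki.card_Sz (F := F) (m := m) ⟨hm, hF⟩
  rw [← Nat.card_congr (SuzukiSp4.szEquiv (F := F) (m := m) ⟨hm, hF⟩).toEquiv, hc, hF]
  have hp := Nat.prime_two
  have he : 0 < 2 * m + 1 := by omega
  have h2 := two_le_of_eq_pow hp he rfl
  have hpq : 2 ∣ 2 ^ (2 * m + 1) := dvd_of_eq_pow he rfl
  refine orderBounds_of hp (e := 2 * m + 1) rfl ?_ (d := 1) (N := 2) (R := 3)
    ((one_mul _).trans (mul_assoc _ _ _)) hp.not_dvd_one
    (hp.prime.not_dvd_mul (not_dvd_pow_add_one hp hpq two_pos)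
      (by simpa using not_dvd_pow_sub_one hp hpq one_pos (Nat.two_pow_pos _)))
    (by simpa using add_mul_sub_lt h2 (by norm_num : 1 ≤ 2)) (by norm_num)
  rw [← hF, ← hc]
  exact Nat.card_pos.ne'

/-- ²E₆(q), given its order. -/
theorem twistedE6 (hp : p.Prime) {K : Type} [Field K] [Fintype K] [CharP K p] {q : ℕ}
    (hK : Fintype.card K = q ^ 2)
    (h : Nat.gcd 3 (q + 1) * Nat.card ↥(Lie.twistedE6 K q) =
      q ^ 36 * (q ^ 2 - 1) * (q ^ 5 + 1) * (q ^ 6 - 1) * (q ^ 8 - 1) * (q ^ 9 + 1) * (q ^ 12 - 1)) :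
    OrderBounds p (Nat.card ↥(Lie.twistedE6 K q)) := by
  obtain ⟨e, he, hq⟩ := exists_base_eq hp two_pos K hK
  have h2 := two_le_of_eq_pow hp he hq
  have hpq := dvd_of_eq_pow he hq
  have hs : ∀ a, 0 < a → ¬ p ∣ q ^ a - 1 := fun a ha =>
    not_dvd_pow_sub_one hp hpq ha (by omega)
  refine orderBounds_of hp hq Nat.card_pos.ne' (d := Nat.gcd 3 (q + 1)) (N := 36) (R := 42)
    (M := (q ^ 5 + 1) * (q ^ 2 - 1) * (q ^ 6 - 1) * ((q ^ 8 - 1) * (q ^ 9 + 1)) * (q ^ 12 - 1))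
    (by rw [h]; ring)
    (not_dvd_of_dvd (Nat.gcd_dvd_right _ _) (by simpa using not_dvd_pow_add_one hp hpq one_pos))
    ?_ ?_ (by norm_num)
  · exact hp.prime.not_dvd_mul (hp.prime.not_dvd_mul (hp.prime.not_dvd_mul
      (hp.prime.not_dvd_mul (not_dvd_pow_add_one hp hpq (by norm_num)) (hs 2 two_pos))
      (hs 6 (by norm_num)))
      (hp.prime.not_dvd_mul (hs 8 (by norm_num)) (not_dvd_pow_add_one hp hpq (by norm_num))))
      (hs 12 (by norm_num))
  · have hl : ∀ a, q ^ a - 1 < q ^ a := fun a => Nat.sub_lt (pow_pos (by omega) _) one_pos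
    exact mul_lt_pow (mul_lt_pow (mul_lt_pow (add_mul_sub_lt h2 (a := 5) (b := 2) (by norm_num))
      (hl 6)) (sub_mul_add_lt h2 (a := 8) (b := 9) (by norm_num))) (hl 12)

/-- ³D₄(q), given its order. -/
theorem twistedD4 (hp : p.Prime) {K : Type} [Field K] [Fintype K] [CharP K p] {q : ℕ}
    (hK : Fintype.card K = q ^ 3)
    (h : Nat.card ↥(Lie.twistedD4 K q) =
      q ^ 12 * (q ^ 2 - 1) * (q ^ 6 - 1) * (q ^ 8 + q ^ 4 + 1)) :
    OrderBounds p (Nat.card ↥(Lie.twistedD4 K q)) := by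
  obtain ⟨e, he, hq⟩ := exists_base_eq hp three_pos K hK
  have h2 := two_le_of_eq_pow hp he hq
  have hpq := dvd_of_eq_pow he hq
  refine orderBounds_of hp hq Nat.card_pos.ne' (d := 1) (N := 12) (R := 16)
    (M := (q ^ 8 + q ^ 4 + 1) * (q ^ 2 - 1) * (q ^ 6 - 1))
    (by rw [one_mul, h]; ring) hp.not_dvd_one ?_ ?_ (by norm_num)
  · refine hp.prime.not_dvd_mul (hp.prime.not_dvd_mul ?_
      (not_dvd_pow_sub_one hp hpq (by norm_num) (by omega)))
      (not_dvd_pow_sub_one hp hpq (by norm_num) (by omega))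
    intro hd
    exact hp.one_lt.ne' (Nat.dvd_one.1 ((Nat.dvd_add_right
      (dvd_add (dvd_pow hpq (by norm_num)) (dvd_pow hpq (by norm_num)))).1 hd))
  · rw [show (16 : ℕ) = 10 + 6 by norm_num, pow_add]
    refine Nat.mul_lt_mul'' ?_ (Nat.sub_lt (pow_pos (by omega) _) one_pos)
    obtain ⟨A, hA⟩ : ∃ A, q ^ 2 = A + 1 :=
      ⟨q ^ 2 - 1, by have := Nat.one_le_pow 2 q (by omega); omega⟩
    have hA4 : 4 ≤ A + 1 := hA ▸ Nat.pow_le_pow_left h2 2
    rw [show q ^ 8 = (q ^ 2) ^ 4 by ring, show q ^ 4 = (q ^ 2) ^ 2 by ring,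
      show q ^ 10 = (q ^ 2) ^ 5 by ring, hA, Nat.add_sub_cancel]
    nlinarith [Nat.pow_le_pow_left hA4 2, Nat.pow_le_pow_left hA4 3, Nat.pow_le_pow_left hA4 4]

/-- ²F₄(q), given its order. -/
theorem twistedF4 {K : Type} [Field K] [Fintype K] {m q : ℕ} (hq : q = 2 ^ (2 * m + 1))
    (h : Nat.card ↥(Lie.twistedF4 K (2 ^ m)) =
      q ^ 12 * (q - 1) * (q ^ 3 + 1) * (q ^ 4 - 1) * (q ^ 6 + 1)) :
    OrderBounds 2 (Nat.card ↥(Lie.twistedF4 K (2 ^ m))) := by
  have hp := Nat.prime_two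
  have he : 0 < 2 * m + 1 := by omega
  have h2 := two_le_of_eq_pow hp he hq
  have hpq := dvd_of_eq_pow he hq
  refine orderBounds_of hp hq Nat.card_pos.ne' (d := 1) (N := 12) (R := 14)
    (M := (q ^ 1 - 1) * (q ^ 3 + 1) * ((q ^ 4 - 1) * (q ^ 6 + 1)))
    (by rw [one_mul, h, pow_one]; ring) hp.not_dvd_one ?_ ?_ (by norm_num)
  · exact hp.prime.not_dvd_mul (hp.prime.not_dvd_mul
      (not_dvd_pow_sub_one hp hpq one_pos (by omega)) (not_dvd_pow_add_one hp hpq (by norm_num)))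
      (hp.prime.not_dvd_mul (not_dvd_pow_sub_one hp hpq (by norm_num) (by omega))
        (not_dvd_pow_add_one hp hpq (by norm_num)))
  · rw [show (14 : ℕ) = (1 + 3) + (4 + 6) by norm_num, pow_add _ _ (4 + 6)]
    exact Nat.mul_lt_mul'' (sub_mul_add_lt h2 (by norm_num)) (sub_mul_add_lt h2 (by norm_num))

/-- ²G₂(q), given its order. -/
theorem twistedG2 {K : Type} [Field K] [Fintype K] {m q : ℕ} (hq : q = 3 ^ (2 * m + 1))
    (h : Nat.card ↥(Lie.twistedG2 K (3 ^ m)) = q ^ 3 * (q - 1) * (q ^ 3 + 1)) :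
    OrderBounds 3 (Nat.card ↥(Lie.twistedG2 K (3 ^ m))) := by
  have hp := Nat.prime_three
  have he : 0 < 2 * m + 1 := by omega
  have h2 := two_le_of_eq_pow hp he hq
  have hpq := dvd_of_eq_pow he hq
  refine orderBounds_of hp hq Nat.card_pos.ne' (d := 1) (N := 3) (R := 4)
    (M := (q ^ 1 - 1) * (q ^ 3 + 1))
    (by rw [one_mul, h, pow_one]; ring) hp.not_dvd_one ?_ ?_ (by norm_num)
  · exact hp.prime.not_dvd_mul (not_dvd_pow_sub_one hp hpq one_pos (by omega))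
      (not_dvd_pow_add_one hp hpq (by norm_num))
  · exact sub_mul_add_lt h2 (a := 1) (b := 3) (by norm_num)

end Cfsg.Agent.Lib.LieTypeBound
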