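import Cfsg.Agent.Lib.LieTypeBound.Cases

set_option autoImplicit false

/-!
The order bound for groups of Lie type, relative to the orders of the twisted groups.
-/

namespace Cfsg.Agent.Lib.LieTypeBound

variable {G : Type*} [Group G]

theorem main (p : ℕ) (hp : p.Prime) (hG : Cfsg.IsLieTypeChar p G)
    (hE6 : ∀ (K : Type) [Field K] [Fintype K] (q : ℕ), IsPrimePow q → Fintype.card K = q ^ 2 →
      Nat.gcd 3 (q + 1) * Nat.card ↥(Lie.twistedE6 K q) =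
        q ^ 36 * (q ^ 2 - 1) * (q ^ 5 + 1) * (q ^ 6 - 1) * (q ^ 8 - 1) * (q ^ 9 + 1) * (q ^ 12 - 1))
    (hD4 : ∀ (K : Type) [Field K] [Fintype K] (q : ℕ), IsPrimePow q → Fintype.card K = q ^ 3 →
      Nat.card ↥(Lie.twistedD4 K q) =
        q ^ 12 * (q ^ 2 - 1) * (q ^ 6 - 1) * (q ^ 8 + q ^ 4 + 1))
    (hF4 : ∀ (K : Type) [Field K] [Fintype K] (m : ℕ), Fintype.card K = 2 ^ (2 * m + 1) →
      Nat.card ↥(Lie.twistedF4 K (2 ^ m)) =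
        (2 ^ (2 * m + 1)) ^ 12 * (2 ^ (2 * m + 1) - 1) * ((2 ^ (2 * m + 1)) ^ 3 + 1) *
          ((2 ^ (2 * m + 1)) ^ 4 - 1) * ((2 ^ (2 * m + 1)) ^ 6 + 1))
    (hG2 : ∀ (K : Type) [Field K] [Fintype K] (m : ℕ), Fintype.card K = 3 ^ (2 * m + 1) →
      Nat.card ↥(Lie.twistedG2 K (3 ^ m)) =
        (3 ^ (2 * m + 1)) ^ 3 * (3 ^ (2 * m + 1) - 1) * ((3 ^ (2 * m + 1)) ^ 3 + 1)) :
    Nat.card G < p ^ (3 * (Nat.card G).factorization p) ∧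
      ((¬ ∃ (F : Type) (_ : Field F) (_ : Fintype F), Fintype.card F = p ^ (Nat.card G).factorization p ∧
          Nonempty (G ≃* Matrix.ProjectiveSpecialLinearGroup (Fin 2) F)) →
        Nat.card G ^ 3 < p ^ (8 * (Nat.card G).factorization p)) := by
  suffices h : OrderBounds p (Nat.card G) ∨
      ∃ (F : Type) (_ : Field F) (_ : Fintype F) (_ : CharP F p),
        Nonempty (G ≃* Matrix.ProjectiveSpecialLinearGroup (Fin 2) F) by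
    rcases h with h | ⟨F, _, _, _, ⟨e⟩⟩
    · exact ⟨h.1, fun _ => h.2⟩
    · obtain ⟨h1, h2⟩ := psl_two (F := F) hp
      rw [← Nat.card_congr e.toEquiv] at h1 h2
      exact ⟨h1, fun hne => absurd ⟨F, inferInstance, inferInstance, h2, ⟨e⟩⟩ hne⟩
  rcases hG with ⟨F, _, _, _, n, hn, -, ⟨e⟩⟩ | ⟨F, _, _, _, m, hm, -, ⟨e⟩⟩ |
      ⟨F, _, _, _, n, q, hF, hn, -, ⟨e⟩⟩ | ⟨F, _, _, _, m, hm, hodd, ⟨e⟩⟩ |
      ⟨F, _, _, _, m, hm, ⟨e⟩⟩ | ⟨F, _, _, _, m, a, b, hm, hab, ⟨e⟩⟩ |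
      ⟨F, _, _, _, h⟩ | ⟨K, _, _, _, q, hq, h⟩ |
      ⟨rfl, F, _, _, m, hm, hF, ⟨e⟩⟩ | ⟨rfl, K, _, _, m, -, hK, ⟨e⟩⟩ |
      ⟨rfl, K, _, _, m, -, hK, ⟨e⟩⟩
  · rcases eq_or_lt_of_le hn with rfl | hn3
    · exact .inr ⟨F, inferInstance, inferInstance, inferInstance, ⟨e⟩⟩
    · exact .inl (Nat.card_congr e.toEquiv ▸ psl hp hn3)
  · exact .inl (Nat.card_congr e.toEquiv ▸ psp hp hm)
  · exact .inl (Nat.card_congr e.toEquiv ▸ psu hp hF hn)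
  · exact .inl (Nat.card_congr e.toEquiv ▸ pomegaOdd hp hm hodd)
  · exact .inl (Nat.card_congr e.toEquiv ▸ pomegaPlus hp hm)
  · exact .inl (Nat.card_congr e.toEquiv ▸ pomegaMinus hp hm a b hab)
  · obtain ⟨h2, h4, h6, h7, h8⟩ := exceptional (F := F) hp
    rcases h with ⟨-, ⟨e⟩⟩ | ⟨⟨e⟩⟩ | ⟨⟨e⟩⟩ | ⟨⟨e⟩⟩ | ⟨⟨e⟩⟩ <;>
      · rw [Nat.card_congr e.toEquiv]
        exact .inl (by assumption)
  · rcases h with ⟨hK, ⟨e⟩⟩ | ⟨hK, ⟨e⟩⟩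
    · exact .inl (Nat.card_congr e.toEquiv ▸ twistedE6 hp hK (hE6 K q hq hK))
    · exact .inl (Nat.card_congr e.toEquiv ▸ twistedD4 hp hK (hD4 K q hq hK))
  · exact .inl (Nat.card_congr e.toEquiv ▸ suzuki hm hF)
  · exact .inl (Nat.card_congr e.toEquiv ▸ twistedF4 rfl (hF4 K m hK))
  · exact .inl (Nat.card_congr e.toEquiv ▸ twistedG2 rfl (hG2 K m hK))

end Cfsg.Agent.Lib.LieTypeBound
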